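import Cfsg.Agent.H978.EP.NineE6
import Cfsg.Agent.H56.EP.Cyc
import Cfsg.Agent.H720.RowsSix

/-!
# S4929: the remaining primes of `E₆(q)` (helper978)
-/

set_option autoImplicit false

open Cfsg Cfsg.Agent.H892.EP

namespace Cfsg.Agent.H978.EP

/-- `d = 8, 9, 12` -/
theorem rest_e6 (F : Type) [Field F] [Fintype F] (ho : Odd (Fintype.card F)) (p : ℕ) [Fact p.Prime] (hp : p ≠ 2)
    (h0 : ¬ p ∣ Fintype.card F) (h : ∀ d ∈ [1, 2, 3, 4, 5, 6], ¬ p ∣ Fintype.card F ^ d - 1)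
    (hd : p ∣ Nat.card ↥(Lie.chevE6.group F)) : EvAt p ↥(Lie.chevE6.group F) := by
  have hpp : p.Prime := Fact.out
  by_cases h8 : p ∣ Fintype.card F ^ 8 - 1
  swap
  · refine evAt_E6 F ho p h0 (fun d hd' => ?_) hd
    rcases (by simpa using hd' : d = 1 ∨ d = 2 ∨ d = 4 ∨ d = 5 ∨ d = 6 ∨ d = 8) with rfl | rfl | rfl | rfl | rfl | rfl
    · exact h 1 (by simp)
    · exact h 2 (by simp)
    · exact h 4 (by simp)
    · exact h 5 (by simp)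
    · exact h 6 (by simp)
    · exact h8
  obtain ⟨q, hq⟩ : ∃ q, Fintype.card F = q := ⟨_, rfl⟩
  rw [hq] at h0 h h8 ho
  have hq1 : 1 ≤ q := ho.pos
  have hcast : ∀ k : ℕ, ((q ^ k - 1 : ℕ) : ℤ) = (q : ℤ) ^ k - 1 := fun k => by
    rw [Nat.cast_sub (Nat.one_le_pow _ _ hq1)]; push_cast; ring
  have hpz : Prime (p : ℤ) := Nat.prime_iff_prime_int.1 hpp
  have hz : ∀ k : ℕ, p ∣ q ^ k - 1 ↔ (p : ℤ) ∣ (q : ℤ) ^ k - 1 := fun k => by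
    rw [← hcast, Int.natCast_dvd_natCast]
  have key : (p : ℤ) ∣ 1 + (q : ℤ) ^ 4 := by
    have h1 := (hz 8).1 h8
    have h2 : (q : ℤ) ^ 8 - 1 = (1 + (q : ℤ) ^ 4) * ((q : ℤ) ^ 4 - 1) := by ring
    rw [h2] at h1
    rcases hpz.dvd_or_dvd h1 with h3 | h3
    · exact h3
    · exact absurd ((hz 4).2 h3) (h 4 (by simp))
  have h3 : p ≠ 3 := by
    rintro rfl
    have h4 : ¬ 3 ∣ q ^ 2 - 1 := h 2 (by simp)
    rw [hz 2] at h4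
    apply h4
    have h5 : ¬ ((3 : ℕ) : ℤ) ∣ (q : ℤ) := fun h5 => h0 (Int.natCast_dvd_natCast.1 h5)
    have h6 : (q : ℤ) ^ 2 - 1 = (q - 1) * (q + 1) := by ring
    rw [h6]
    have h7 : ((3 : ℕ) : ℤ) = 3 := rfl
    rw [h7] at h5 ⊢
    rcases (by omega : (3 : ℤ) ∣ (q : ℤ) - 1 ∨ (3 : ℤ) ∣ (q : ℤ) + 1) with h8 | h8
    · exact Dvd.dvd.mul_right h8 _
    · exact Dvd.dvd.mul_left h8 _
  obtain ⟨m, hm⟩ : ∃ m : ℕ, (m : ℤ) = (1 + (q : ℤ) ^ 4) * ((q : ℤ) ^ 2 - 1) :=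
    ⟨(1 + q ^ 4) * (q ^ 2 - 1), by rw [Nat.cast_mul, hcast]; push_cast; ring⟩
  refine Cfsg.Agent.H56.EP.evAt_of_cycCard hp (Cfsg.Agent.H129.CycCard.card_E6_8 hq hm hpp key hp) ?_
  have hord : ∀ e : ℕ, orderOf (q : ZMod p) = e → p ∣ q ^ e - 1 := fun e he => by
    rw [← ZMod.natCast_eq_zero_iff, Nat.cast_sub (Nat.one_le_pow _ _ hq1), Nat.cast_pow, Nat.cast_one, ← he,
      pow_orderOf_eq_one, sub_self]
  rcases Cfsg.Agent.H720.RowsSix.E6' hq hpp h3 h0 hd with h4 | ⟨h4 | h4, -⟩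
  · exact h4
  · exact absurd (hord 5 h4) (h 5 (by simp))
  · exfalso
    have h5 := (hz 9).1 (hord 9 h4)
    have h6 := (hz 8).1 h8
    refine h 1 (by simp) ((hz 1).2 ?_)
    have h7 : (q : ℤ) ^ 1 - 1 = ((q : ℤ) ^ 9 - 1) - q * ((q : ℤ) ^ 8 - 1) := by ring
    rw [h7]
    exact dvd_sub h5 (Dvd.dvd.mul_left h6 _)

end Cfsg.Agent.H978.EP
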