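import Cfsg.Agent.H410.RealTw
import Cfsg.Agent.H315.RatB0.SzRee
import Cfsg.Agent.H652.EP.Own

/-!
# S4929: the row of the Ree groups `²G₂(q)` (helper978)
-/

set_option autoImplicit false

open Cfsg Cfsg.Agent.H892.EP

namespace Cfsg.Agent.H978.EP

theorem row_ree : SpRow fun K => Lie.IsoRee K := by
  intro K _ _ _ h p hp hp2 hd
  have : Fact p.Prime := ⟨hp⟩
  by_cases hp3 : p = 3
  · subst hp3
    refine Cfsg.Agent.H652.EP.evAt_own (by norm_num) ?_
    unfold IsLieTypeChar
    simp only [h, and_true]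
    simp
  · have h3 : 3 < p := by
      have := hp.two_le
      omega
    have hcyc := fun P : Sylow p K => Cfsg.Agent.H315.RatB0.isCyclic_ree h h3 (P : Subgroup K) P.isPGroup'
    obtain ⟨F, _, _, m, hm, hF, ⟨e⟩⟩ := h
    rw [Nat.card_congr e.toEquiv] at hd
    obtain ⟨g, hg, hr⟩ := (Cfsg.Agent.H410.RealTw.real_ree hm hF hp2 hp3 hd).congr e.symm
    exact evAt_of_real_cyclic hp2 hcyc hg hr

end Cfsg.Agent.H978.EP
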