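import Cfsg.Agent.H334.DS.Rank
import Cfsg.Agent.H966.EP.Perm

/-!
# S4929: rank 3 permutation characters and characters of even degree (helper978)

* `even_of_frame` : the constituents of a permutation character of rank 3 have even degree if `n k l` is two times an odd
  number times a square and `k + l` is even, `k ≠ l`;
* `evAt_of_rank_three` : the criterion for the principal block.
-/

set_option autoImplicit false
set_option linter.unusedSectionVars false

open scoped ComplexConjugate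
open Cfsg Cfsg.Agent.Characters.Core Cfsg.Agent.H892.EP Cfsg.Agent.H966.EP Cfsg.Agent.H690.Spor.RankThree

namespace Cfsg.Agent.H978.EP

theorem two_dvd_of_square {f g D N m s : ℕ} (h1 : f * g * D = N) (h2 : N = 2 * m * s ^ 2) (hm : Odd m) (hs : s ≠ 0)
    (hD : IsSquare D) : 2 ∣ f * g := by
  by_contra hcon
  obtain ⟨e, rfl⟩ := hD
  have hfg : f * g ≠ 0 := by
    intro h
    rw [h] at hcon
    exact hcon (dvd_zero 2)
  have hm0 : m ≠ 0 := by
    rintro rfl
    exact absurd hm (by decide)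
  have hN : N ≠ 0 := by
    rw [h2]
    exact mul_ne_zero (mul_ne_zero two_ne_zero hm0) (pow_ne_zero 2 hs)
  have he : e ≠ 0 := by
    rintro rfl
    apply hN
    rw [← h1, mul_zero, mul_zero]
  have h3 : padicValNat 2 (f * g * (e * e)) = padicValNat 2 (2 * m * s ^ 2) := by rw [h1, h2]
  have : Fact (Nat.Prime 2) := ⟨Nat.prime_two⟩
  rw [padicValNat.mul hfg (mul_ne_zero he he), padicValNat.mul he he,
    padicValNat.mul (mul_ne_zero two_ne_zero hm0) (pow_ne_zero 2 hs), padicValNat.mul two_ne_zero hm0,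
    padicValNat.pow, padicValNat.self (by norm_num), padicValNat.eq_zero_of_not_dvd hcon,
    padicValNat.eq_zero_of_not_dvd (fun h => Nat.not_even_iff_odd.2 hm (even_iff_two_dvd.2 h))] at h3
  omega

/-- equal degrees only for equal subdegrees -/
theorem eq_of_degrees_eq {k l f g D a b : ℕ} (hk : 0 < k) (hl : 0 < l) (h1 : f + g = k + l)
    (h2 : f * g * D = (1 + k + l) * k * l) (h3 : k * k = k + k * a + l * b)
    (h4 : (D : ℤ) = ((a : ℤ) - b) ^ 2 + 4 * ((k : ℤ) - b)) (hfg : f = g) : k = l := by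
  subst hfg
  have h5 : (k : ℤ) * k = k + k * a + l * b := by exact_mod_cast h3
  have h6 : (f : ℤ) + f = k + l := by exact_mod_cast h1
  have h7 : (f : ℤ) * f * D = (1 + k + l) * k * l := by exact_mod_cast h2
  have h8 : (((a : ℤ) - b) * (k + l) + 2 * k) ^ 2 = 0 := by
    have h9 : (((a : ℤ) - b) * (k + l) + 2 * k) ^ 2 = D * (k + l) ^ 2 - 4 * ((1 + k + l) * k * l) := by
      rw [h4]
      linear_combination (-4 * ((k : ℤ) + l)) * h5
    rw [h9, ← h7, ← h6]
    ring
  have h10 : ((a : ℤ) - b) * (k + l) + 2 * k = 0 := by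
    exact pow_eq_zero_iff (two_ne_zero) |>.1 h8
  have hk' : (0 : ℤ) < k := by exact_mod_cast hk
  have hl' : (0 : ℤ) < l := by exact_mod_cast hl
  have h11 : (a : ℤ) - b = -1 := by
    have h12 : (a : ℤ) - b < 0 := by
      by_contra hc
      push Not at hc
      nlinarith
    have h13 : -2 < (a : ℤ) - b := by
      by_contra hc
      push Not at hc
      nlinarith
    omega
  rw [h11] at h10
  have : (k : ℤ) = l := by linarith
  exact_mod_cast this

section

variable {G X : Type*} [Group G] [MulAction G X] [Finite G]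

open scoped Classical in
theorem even_of_frame [Finite X] {R : X → X → Prop} {k l m s : ℕ} (h : R3 G X R k l) (hkl : k ≠ l)
    (he : 2 ∣ k + l) (h2 : (1 + k + l) * k * l = 2 * m * s ^ 2) (hm : Odd m) (hs : s ≠ 0) :
    ∃ χ₁ χ₂ : IrrCharacter G, 2 ∣ charDegree (χ₁ : G → ℂ) ∧ 2 ∣ charDegree (χ₂ : G → ℂ) ∧
      ∀ x : G, (Nat.card (MulAction.fixedBy X x) : ℂ) = 1 + (χ₁ : G → ℂ) x + (χ₂ : G → ℂ) x := by
  have := Fintype.ofFinite X
  obtain ⟨χ₁, χ₂, f, g, D, h3, h4, h5, h6, h7, h8, a, b, h9, h10⟩ := Cfsg.Agent.H334.DS.frame' h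
  have hne : f ≠ g := fun e => hkl (eq_of_degrees_eq h.k0 h.l0 h6 h7 h9 h10 e)
  have hd := two_dvd_of_square h7 h2 hm hs (h8 hne)
  have hf : 2 ∣ f ∧ 2 ∣ g := by
    rcases (Nat.prime_two.dvd_mul).1 hd with h11 | h11 <;> omega
  refine ⟨χ₁, χ₂, ?_, ?_, h5⟩
  · rw [Cfsg.Agent.Blocks.Basic.charDegree_of_eq h3]
    exact hf.1
  · rw [Cfsg.Agent.Blocks.Basic.charDegree_of_eq h4]
    exact hf.2

end

section

universe u

variable {G : Type u} [Group G] [Finite G]

theorem mem_fixedBy_mk (B : Subgroup G) (g y : G) :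
    ((y : G) : G ⧸ B) ∈ MulAction.fixedBy (G ⧸ B) g ↔ y⁻¹ * g * y ∈ B := by
  rw [MulAction.mem_fixedBy, MulAction.Quotient.smul_coe, smul_eq_mul, eq_comm, QuotientGroup.eq, ← mul_assoc]

/-- the permutation character of `G / B` -/
theorem permF_eq (B : Subgroup G) (g : G) :
    permF B g = (Nat.card B : ℂ) * (Nat.card (MulAction.fixedBy (G ⧸ B) g) : ℂ) := by
  unfold permF
  rw [← Nat.cast_mul, mul_comm, ← Nat.card_prod]
  congr 1
  refine Nat.card_congr ?_
  refine (Equiv.subtypeEquiv (Subgroup.groupEquivQuotientProdSubgroup (s := B))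
    (q := fun x => x.1 ∈ MulAction.fixedBy (G ⧸ B) g) fun y => ?_).trans
    (Equiv.prodSubtypeFstEquivSubtypeProd (p := fun x => x ∈ MulAction.fixedBy (G ⧸ B) g))
  have h1 : ((Subgroup.groupEquivQuotientProdSubgroup (s := B)) y).1 = ((y : G) : G ⧸ B) := rfl
  rw [h1, mem_fixedBy_mk]

open scoped Classical in
/-- the constituents of `1_B^G` -/
theorem eq_of_md_ne_zero (B : Subgroup G) {χ₁ χ₂ : IrrCharacter G}
    (h : ∀ x : G, (Nat.card (MulAction.fixedBy (G ⧸ B) x) : ℂ) = 1 + (χ₁ : G → ℂ) x + (χ₂ : G → ℂ) x)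
    {χ : IrrCharacter G} (h1 : χ ≠ oneChar G) (h2 : md B (χ : G → ℂ) ≠ 0) : χ = χ₁ ∨ χ = χ₂ := by
  have := Fintype.ofFinite G
  by_contra hcon
  push Not at hcon
  apply (classInner_permF_ne_zero B χ).2 h2
  have h3 : permF B = (Nat.card B : ℂ) • ((oneChar G : G → ℂ) + (χ₁ : G → ℂ) + (χ₂ : G → ℂ)) := by
    funext x
    rw [permF_eq, h x]
    rfl
  have h4 : ∀ ψ : IrrCharacter G, χ ≠ ψ → classInner (ψ : G → ℂ) (χ : G → ℂ) = 0 := fun ψ hψ =>
    classInner_irr_ne ψ.2 χ.2 fun e => hψ (Subtype.ext e.symm)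
  rw [h3, classInner_smul_left, classInner_add_left, classInner_add_left, h4 _ h1, h4 _ hcon.1, h4 _ hcon.2]
  simp

/-- **The criterion**: rank 3 with subdegrees `1, k, l`. -/
theorem evAt_of_rank_three {p : ℕ} [Fact p.Prime] (H : Subgroup G) (hd : p ∣ Nat.card G) (hH : ¬ p ∣ Nat.card H)
    {k l m s : ℕ} (hi : H.index = 1 + k + l) {q₁ q₂ : G ⧸ H} (h1 : (MulAction.orbit H q₁).ncard = k)
    (h2 : (MulAction.orbit H q₂).ncard = l) (hk : 1 < k) (hl : 1 < l) (hkl : k ≠ l) (he : 2 ∣ k + l)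
    (hs : (1 + k + l) * k * l = 2 * m * s ^ 2) (hm : Odd m) (hs0 : s ≠ 0) : EvAt p G := by
  intro M hM
  obtain ⟨R, hR⟩ := R3.of_index H hi h1 h2 hk hl hkl
  obtain ⟨χ₁, χ₂, e1, e2, h3⟩ := even_of_frame hR hkl he hs hm hs0
  obtain ⟨χ, hχ, h4, h5⟩ := exists_of_coprime hM H hd hH
  refine ⟨χ, hχ, ?_⟩
  rcases eq_of_md_ne_zero H h3 h4 h5 with rfl | rfl
  · exact e1
  · exact e2

end

end Cfsg.Agent.H978.EP
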