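import Cfsg.Agent.H978.EP.SubOrb
import Cfsg.Agent.H978.EP.RankThree
import Cfsg.Agent.H116.RatB0.TabE6

/-!
# S4929: `E₆(q)`, `q` odd, primes not dividing the order of the parabolic subgroup of type `D₅` (helper978)

The action on the cosets has rank 3 with subdegrees `1`, `q (q³ + 1) (q⁸ - 1) / (q - 1)`,
`q⁸ (q⁴ + 1) (q⁵ - 1) / (q - 1)`; by Frame's theorem both constituents have even degree.
-/

set_option autoImplicit false
set_option linter.unusedSectionVars false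
set_option maxRecDepth 100000

namespace Cfsg.Agent.H978.EP

open CoxeterSystem Cfsg.Agent.ChevalleyStructure.CoxeterGeom Cfsg.Agent.Tits.Roots Cfsg.Agent.Tits.Core
  Cfsg.Agent.Tits.RootComb Cfsg.Agent.Nodes.Reps Cfsg.Agent.Nodes.BNOf
  Cfsg.Agent.Nodes.StabComb Cfsg.Agent.Nodes.Bruhat Cfsg.Agent.Nodes.LeviDec Cfsg.Agent.H35.Poin
  Cfsg.Agent.H35.PoinNum Cfsg.Agent.H35.ExcIdx Cfsg.Agent.H134.StrP Cfsg.Agent.H116.RatB0
  Cfsg.Agent.ChevalleyStructure.CoxeterGeomTypes Cfsg.Lie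
open Cfsg.Agent.Nodes.RGDChev Cfsg.Agent.ChevalleyStructure.NPerm
open Cfsg.Agent.H892.EP (EvAt)

/-- three times the first fundamental weight -/
def rE6 : Fin 6 → ℤ := ![4, 3, 5, 6, 4, 2]

def LE6 : List (Fin 6 → ℤ) := [![4, 3, 5, 6, 4, 2], ![1, 3, 5, 6, 4, 2], ![1, 3, 2, 6, 4, 2], ![1, 3, 2, 3, 4, 2],
  ![1, 0, 2, 3, 4, 2], ![1, 3, 2, 3, 1, 2], ![1, 0, 2, 3, 1, 2], ![1, 3, 2, 3, 1, -1], ![1, 0, 2, 0, 1, 2],
  ![1, 0, 2, 3, 1, -1], ![1, 0, -1, 0, 1, 2], ![1, 0, 2, 0, 1, -1], ![1, 0, -1, 0, 1, -1], ![1, 0, 2, 0, -2, -1],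
  ![1, 0, -1, 0, -2, -1], ![1, 0, -1, -3, -2, -1], ![1, -3, -1, -3, -2, -1], ![-2, 0, -1, 0, 1, 2],
  ![-2, 0, -1, 0, 1, -1], ![-2, 0, -1, 0, -2, -1], ![-2, 0, -1, -3, -2, -1], ![-2, -3, -1, -3, -2, -1],
  ![-2, 0, -4, -3, -2, -1], ![-2, -3, -4, -3, -2, -1], ![-2, -3, -4, -6, -2, -1], ![-2, -3, -4, -6, -5, -1],
  ![-2, -3, -4, -6, -5, -4]]

theorem dtabE6 : DTab (cartanOf chevE6 6) 0 rE6 17 LE6 :=
  DTab.of_check (J := [0, 1, 2, 3, 4, 5]) (by decide +kernel)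

theorem pairE6 : ∀ i : Fin 6, pairing (cartanOf chevE6 6) i rE6 = if i = 0 then 3 else 0 := by decide +kernel

theorem pairE6' : ∀ i : Fin 6, pairing (cartanOf chevE6 6) i ((3 : ℤ) • rE6 + ract (cartanOf chevE6 6) 0 rE6) =
    if i = 0 then 6 else if i = 2 then 3 else 0 := by decide +kernel

theorem commE6 : ∀ j : Fin 6, j ∈ ({1, 3, 4, 5} : Set (Fin 6)) → CoxeterMatrix.E₆ 0 j = 2 := by decide +kernel

section

variable {W Y : Type*} [Group W] [Group Y] [Finite W] [Finite Y]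
  {cs : CoxeterSystem CoxeterMatrix.E₆ W} {r : ℕ} {T : Subgroup Y} {n : Fin 6 → Y}
  {X : (Fin 6 → ℤ) → Subgroup Y} (R : RGD cs (hpE6.isCartan) r T n X) {q : ℕ} (hq : 2 ≤ q)
  (hs : ∀ i, Nat.card (X (sr i)) = q)

theorem orthE6 {W : Type*} [Group W] {cs : CoxeterSystem CoxeterMatrix.E₆ W} :
    orth cs (hpE6.isCartan) rE6 = {j | j ≠ 0} := by
  ext j
  rw [mem_orth, pairE6 j]
  show _ ↔ j ≠ 0
  by_cases hj : j = 0
  · simp [hj]
  · simp [hj]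

theorem domE6 : Dom (cartanOf chevE6 6) rE6 := fun i => by
  rw [pairE6 i]
  split_ifs <;> norm_num

theorem domE6' {W : Type*} [Group W] {cs : CoxeterSystem CoxeterMatrix.E₆ W} :
    Dom (cartanOf chevE6 6) ((3 : ℤ) • rE6 + rep cs (hpE6.isCartan) (cs.simple 0) rE6) := fun i => by
  rw [← ract_eq, pairE6' i]
  split_ifs <;> norm_num

theorem orthE6' {W : Type*} [Group W] {cs : CoxeterSystem CoxeterMatrix.E₆ W} :
    orth cs (hpE6.isCartan) ((3 : ℤ) • rE6 + rep cs (hpE6.isCartan) (cs.simple 0) rE6) =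
      ({1, 3, 4, 5} : Set (Fin 6)) := by
  ext j
  rw [mem_orth, ← ract_eq, pairE6' j]
  revert j
  decide +kernel

include R hq hs

/-- the orbits of `P` on `Y / P` -/
theorem orbitsE6 (hG : GG cs (hpE6.isCartan) T X = ⊤) {N : ℕ}
    (hN : (PJ cs (hpE6.isCartan) T X {j | j ≠ 0}).index = N)
    (hN' : N * ((q - 1) * (q ^ 4 - 1)) = (q ^ 9 - 1) * (q ^ 12 - 1)) :
    ∃ q₁ q₂ : Y ⧸ PJ cs (hpE6.isCartan) T X {j | j ≠ 0},
      (MulAction.orbit (PJ cs (hpE6.isCartan) T X {j | j ≠ 0}) q₁).ncard = q * (q ^ 3 + 1) * (q + 1) * (q ^ 2 + 1) * (q ^ 4 + 1) ∧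
      (MulAction.orbit (PJ cs (hpE6.isCartan) T X {j | j ≠ 0}) q₂).ncard =
        q ^ 8 * (q ^ 4 + q ^ 3 + q ^ 2 + q + 1) * (q ^ 4 + 1) ∧
      N = 1 + q * (q ^ 3 + 1) * (q + 1) * (q ^ 2 + 1) * (q ^ 4 + 1) + q ^ 8 * (q ^ 4 + q ^ 3 + q ^ 2 + q + 1) * (q ^ 4 + 1) := by
  obtain ⟨N5, e5, f5⟩ := oE6_12345 R hq hs
  obtain ⟨N4, e4, f4⟩ := oE6_1345 R hq hs
  obtain ⟨N3, e3, f3⟩ := oE6_01345 R hq hs
  have hJ5 : ({j | j ∈ [1, 2, 3, 4, 5]} : Set (Fin 6)) = {j | j ≠ 0} := by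
    ext j
    revert j
    decide +kernel
  have hJ4 : ({j | j ∈ [1, 3, 4, 5]} : Set (Fin 6)) = {1, 3, 4, 5} := by
    ext j
    revert j
    decide +kernel
  have hJ3 : ({j | j ∈ [0, 1, 3, 4, 5]} : Set (Fin 6)) = insert 0 {1, 3, 4, 5} := by
    ext j
    revert j
    decide +kernel
  rw [hJ5] at e5
  rw [hJ4] at e4
  rw [hJ3] at e3
  have hq0 : (2 : ℤ) ≤ (q : ℤ) := by exact_mod_cast hq
  have hz : ∀ d : ℕ, 0 < d → (0 : ℤ) < (q : ℤ) ^ d - 1 := fun d hd => by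
    have h1 : (q : ℤ) ^ 1 ≤ (q : ℤ) ^ d := pow_le_pow_right₀ (by omega) hd
    rw [pow_one] at h1
    omega
  have hz1 := hz 1 one_pos
  have hz2 := hz 2 two_pos
  have hz3 := hz 3 (by norm_num)
  have hz4 := hz 4 (by norm_num)
  have hz5 := hz 5 (by norm_num)
  have hc1 : ((q - 1 : ℕ) : ℤ) = (q : ℤ) - 1 := by rw [Nat.cast_sub (by omega)]; simp
  have g5 : (N5 : ℤ) * ((q : ℤ) - 1) ^ 6 = ((q : ℤ) ^ 1 - 1) * (((q : ℤ) ^ 2 - 1) * (((q : ℤ) ^ 4 - 1) *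
      (((q : ℤ) ^ 5 - 1) * (((q : ℤ) ^ 6 - 1) * ((q : ℤ) ^ 8 - 1))))) := by
    have h1 := congrArg (Nat.cast : ℕ → ℤ) f5
    rw [prz (by omega), Nat.cast_mul, Nat.cast_pow, hc1] at h1
    simpa using h1
  have g4 : (N4 : ℤ) * ((q : ℤ) - 1) ^ 6 = ((q : ℤ) ^ 1 - 1) * (((q : ℤ) ^ 1 - 1) * (((q : ℤ) ^ 2 - 1) *
      (((q : ℤ) ^ 3 - 1) * (((q : ℤ) ^ 4 - 1) * ((q : ℤ) ^ 5 - 1))))) := by
    have h1 := congrArg (Nat.cast : ℕ → ℤ) f4
    rw [prz (by omega), Nat.cast_mul, Nat.cast_pow, hc1] at h1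
    simpa using h1
  have g3 : (N3 : ℤ) * ((q : ℤ) - 1) ^ 6 = ((q : ℤ) ^ 1 - 1) * (((q : ℤ) ^ 2 - 1) * (((q : ℤ) ^ 2 - 1) *
      (((q : ℤ) ^ 3 - 1) * (((q : ℤ) ^ 4 - 1) * ((q : ℤ) ^ 5 - 1))))) := by
    have h1 := congrArg (Nat.cast : ℕ → ℤ) f3
    rw [prz (by omega), Nat.cast_mul, Nat.cast_pow, hc1] at h1
    simpa using h1
  have hq1 : ((q : ℤ) - 1) ^ 6 ≠ 0 := pow_ne_zero 6 (by omega)
  have h34 : N3 = (q + 1) * N4 := by
    have h1 : (N3 : ℤ) = ((q : ℤ) + 1) * N4 := by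
      refine mul_right_cancel₀ hq1 ?_
      rw [g3, mul_assoc, g4]
      ring
    exact_mod_cast h1
  have hc : ∀ j ∈ ({1, 3, 4, 5} : Set (Fin 6)), cs.simple 0 * cs.simple j = cs.simple j * cs.simple 0 :=
    fun j hj => mul_comm_of_two cs (commE6 j hj)
  have h6 := ncard_orbit_n R (J := {j | j ≠ 0}) (K := {1, 3, 4, 5}) (i := 0) (r0 := rE6) (q := q)
    (fun h => h rfl) orthE6 domE6' orthE6' (by
      intro j hj
      revert hj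
      revert j
      decide +kernel) hc (by rw [e3, e4, h34]; ring)
  set P := PJ cs (hpE6.isCartan) T X {j | j ≠ 0} with hP
  set k := (MulAction.orbit P ((n 0 : Y) : Y ⧸ P)).ncard with hk
  rw [e4, e5] at h6
  have hB : 0 < Nat.card ↥(RGD.B cs (hpE6.isCartan) T X) := Nat.card_pos
  have h7 : k * N4 = q * N5 := by
    refine Nat.eq_of_mul_eq_mul_right hB ?_
    rw [mul_assoc, h6]
    ring
  have h8 : k = q * (q ^ 3 + 1) * (q + 1) * (q ^ 2 + 1) * (q ^ 4 + 1) := by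
    have h9 : (k : ℤ) = (q : ℤ) * ((q : ℤ) ^ 3 + 1) * ((q : ℤ) + 1) * ((q : ℤ) ^ 2 + 1) * ((q : ℤ) ^ 4 + 1) := by
      have h10 : (k : ℤ) * N4 = q * N5 := by exact_mod_cast h7
      have h11 : (k : ℤ) * (N4 * ((q : ℤ) - 1) ^ 6) = q * (N5 * ((q : ℤ) - 1) ^ 6) := by
        rw [← mul_assoc, h10, mul_assoc]
      rw [g4, g5] at h11
      have h12 : ((q : ℤ) ^ 1 - 1) * (((q : ℤ) ^ 1 - 1) * (((q : ℤ) ^ 2 - 1) *
        (((q : ℤ) ^ 3 - 1) * (((q : ℤ) ^ 4 - 1) * ((q : ℤ) ^ 5 - 1))))) ≠ 0 := by positivity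
      refine mul_right_cancel₀ h12 ?_
      rw [h11]
      ring
    exact_mod_cast h9
  have h9 : N = 1 + q * (q ^ 3 + 1) * (q + 1) * (q ^ 2 + 1) * (q ^ 4 + 1) +
      q ^ 8 * (q ^ 4 + q ^ 3 + q ^ 2 + q + 1) * (q ^ 4 + 1) := by
    have h10 : (N : ℤ) = 1 + q * (q ^ 3 + 1) * (q + 1) * (q ^ 2 + 1) * (q ^ 4 + 1) +
      q ^ 8 * (q ^ 4 + q ^ 3 + q ^ 2 + q + 1) * (q ^ 4 + 1) := by
      have h11 := congrArg (Nat.cast : ℕ → ℤ) hN'
      have hcd : ∀ d : ℕ, ((q ^ d - 1 : ℕ) : ℤ) = (q : ℤ) ^ d - 1 := fun d => by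
        rw [Nat.cast_sub (Nat.one_le_pow _ _ (by omega))]
        simp
      rw [Nat.cast_mul, Nat.cast_mul, Nat.cast_mul, hc1, hcd, hcd, hcd] at h11
      have h12 : ((q : ℤ) - 1) * ((q : ℤ) ^ 4 - 1) ≠ 0 := mul_ne_zero (by omega) hz4.ne'
      refine mul_right_cancel₀ h12 ?_
      rw [h11]
      ring
    exact_mod_cast h10
  obtain ⟨d, hd⟩ := exists_double (cs := cs) (h := hpE6.isCartan) orthE6 domE6 dtabE6
  obtain ⟨y, hy⟩ := exists_orbit R hG hd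
  have hcard : Nat.card (Y ⧸ P) = N := hN
  have hpos : 0 < q ^ 8 * (q ^ 4 + q ^ 3 + q ^ 2 + q + 1) * (q ^ 4 + 1) := by positivity
  have hk1 : 1 < k := by
    rw [h8]
    have h13 : 0 < (q ^ 3 + 1) * (q + 1) * (q ^ 2 + 1) * (q ^ 4 + 1) := by positivity
    calc 1 < q := by omega
      _ ≤ q * ((q ^ 3 + 1) * (q + 1) * (q ^ 2 + 1) * (q ^ 4 + 1)) := Nat.le_mul_of_pos_right _ h13
      _ = _ := by ring
  have h14 := ncard_third (X := Y ⧸ P) (H := P) (a := ((1 : Y) : Y ⧸ P)) (b := ((n 0 : Y) : Y ⧸ P))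
    (c := ((y : Y) : Y ⧸ P)) (fun g => by
      show (g : Y) • ((1 : Y) : Y ⧸ P) = _
      rw [MulAction.Quotient.smul_coe, smul_eq_mul, mul_one, QuotientGroup.eq, mul_one]
      exact inv_mem g.2) hy hk1 (by rw [← hk, hcard, h9, h8]; omega)
  refine ⟨((n 0 : Y) : Y ⧸ P), ((y : Y) : Y ⧸ P), h8, ?_, h9⟩
  rw [← hk, hcard, h9, h8] at h14
  omega

end

/-! ### the numbers -/

theorem ltE6 {q : ℕ} (h2 : 2 ≤ q) :
    q * (q ^ 3 + 1) * (q + 1) * (q ^ 2 + 1) * (q ^ 4 + 1) < q ^ 8 * (q ^ 4 + q ^ 3 + q ^ 2 + q + 1) * (q ^ 4 + 1) := by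
  have b1 : q + 1 ≤ q ^ 2 := by nlinarith
  have b2 : q ^ 2 + 1 ≤ q ^ 3 := by
    have : 2 * q ^ 2 ≤ q ^ 3 := by
      rw [pow_succ q 2, mul_comm]
      exact Nat.mul_le_mul_left _ h2
    have : 0 < q ^ 2 := by positivity
    omega
  have b3 : q ^ 3 + 1 ≤ q ^ 4 := by
    have : 2 * q ^ 3 ≤ q ^ 4 := by
      rw [pow_succ q 3, mul_comm]
      exact Nat.mul_le_mul_left _ h2
    have : 0 < q ^ 3 := by positivity
    omega
  refine Nat.mul_lt_mul_of_pos_right ?_ (by positivity)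
  calc q * (q ^ 3 + 1) * (q + 1) * (q ^ 2 + 1) ≤ q * q ^ 4 * q ^ 2 * q ^ 3 := by gcongr
    _ = q ^ 10 := by ring
    _ < q ^ 12 := Nat.pow_lt_pow_right (by omega) (by norm_num)
    _ = q ^ 8 * q ^ 4 := by ring
    _ ≤ q ^ 8 * (q ^ 4 + q ^ 3 + q ^ 2 + q + 1) := Nat.mul_le_mul_left _ (by omega)

theorem one_ltE6 {q : ℕ} (h2 : 2 ≤ q) : 1 < q * (q ^ 3 + 1) * (q + 1) * (q ^ 2 + 1) * (q ^ 4 + 1) := by
  have h13 : 0 < (q ^ 3 + 1) * (q + 1) * (q ^ 2 + 1) * (q ^ 4 + 1) := by positivity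
  calc 1 < q := by omega
    _ ≤ q * ((q ^ 3 + 1) * (q + 1) * (q ^ 2 + 1) * (q ^ 4 + 1)) := Nat.le_mul_of_pos_right _ h13
    _ = _ := by ring

theorem oddE6 {q : ℕ} (ho : Odd q) : (2 ∣ q * (q ^ 3 + 1) * (q + 1) * (q ^ 2 + 1) * (q ^ 4 + 1) +
        q ^ 8 * (q ^ 4 + q ^ 3 + q ^ 2 + q + 1) * (q ^ 4 + 1)) ∧ ∃ m s : ℕ,
    (1 + q * (q ^ 3 + 1) * (q + 1) * (q ^ 2 + 1) * (q ^ 4 + 1) + q ^ 8 * (q ^ 4 + q ^ 3 + q ^ 2 + q + 1) * (q ^ 4 + 1)) *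
      (q * (q ^ 3 + 1) * (q + 1) * (q ^ 2 + 1) * (q ^ 4 + 1)) * (q ^ 8 * (q ^ 4 + q ^ 3 + q ^ 2 + q + 1) * (q ^ 4 + 1)) =
      2 * m * s ^ 2 ∧ Odd m ∧ s ≠ 0 := by
  have hqo : Odd q := ho
  obtain ⟨y, hy⟩ := ho
  have e1 : q ^ 3 + 1 = (q + 1) * (4 * y ^ 2 + 2 * y + 1) := by rw [hy]; ring
  have e2 : q ^ 2 + 1 = 2 * (2 * y ^ 2 + 2 * y + 1) := by rw [hy]; ring
  have hN : Odd ((q ^ 8 + q ^ 4 + 1) * (q ^ 8 + q ^ 7 + q ^ 6 + q ^ 5 + q ^ 4 + q ^ 3 + q ^ 2 + q + 1)) :=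
    ((hqo.pow.add_odd hqo.pow).add_one).mul ((((((((((hqo.pow.add_odd hqo.pow).add_odd hqo.pow).add_odd hqo.pow).add_odd
      hqo.pow).add_odd hqo.pow).add_odd hqo.pow).add_odd hqo)).add_one))
  have e3 : 1 + q * (q ^ 3 + 1) * (q + 1) * (q ^ 2 + 1) * (q ^ 4 + 1) + q ^ 8 * (q ^ 4 + q ^ 3 + q ^ 2 + q + 1) * (q ^ 4 + 1) =
      (q ^ 8 + q ^ 4 + 1) * (q ^ 8 + q ^ 7 + q ^ 6 + q ^ 5 + q ^ 4 + q ^ 3 + q ^ 2 + q + 1) := by ring
  constructor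
  · rw [← e3, add_assoc] at hN
    have h9 : Even (q * (q ^ 3 + 1) * (q + 1) * (q ^ 2 + 1) * (q ^ 4 + 1) +
        q ^ 8 * (q ^ 4 + q ^ 3 + q ^ 2 + q + 1) * (q ^ 4 + 1)) := by
      by_contra h10
      rw [Nat.not_even_iff_odd] at h10
      exact (Nat.not_even_iff_odd.2 hN) (odd_one.add_odd h10)
    exact h9.two_dvd
  · refine ⟨q ^ 9 * ((q ^ 8 + q ^ 4 + 1) * (q ^ 8 + q ^ 7 + q ^ 6 + q ^ 5 + q ^ 4 + q ^ 3 + q ^ 2 + q + 1)) *
      (2 * y ^ 2 + 2 * y + 1) * (4 * y ^ 2 + 2 * y + 1) * (q ^ 4 + q ^ 3 + q ^ 2 + q + 1), (q + 1) * (q ^ 4 + 1), ?_, ?_,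
      by positivity⟩
    · rw [e3, e1, e2]
      ring
    · refine (((hqo.pow.mul hN).mul ?_).mul ?_).mul ?_
      · exact ⟨y ^ 2 + y, by ring⟩
      · exact ⟨2 * y ^ 2 + y, by ring⟩
      · exact (((hqo.pow.add_odd hqo.pow).add_odd hqo.pow).add_odd hqo).add_one

/-- **`E₆(q)`, `q` odd, primes not dividing the order of the parabolic subgroup of type `D₅`.** -/
theorem evAt_E6 (F : Type) [Field F] [Fintype F] (ho : Odd (Fintype.card F)) (p : ℕ) [Fact p.Prime]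
    (h0 : ¬ p ∣ Fintype.card F) (h : ∀ d ∈ [1, 2, 4, 5, 6, 8], ¬ p ∣ Fintype.card F ^ d - 1)
    (hd : p ∣ Nat.card ↥(chevE6.group F)) : EvAt p ↥(chevE6.group F) := by
  have hpp : p.Prime := Fact.out
  obtain ⟨r, hr'⟩ := CharP.exists F
  have hr : r.Prime := CharP.char_is_prime F r
  have : Fact r.Prime := ⟨hr⟩
  obtain ⟨⟨f, hf'⟩, -, hK⟩ := FiniteField.card F r
  have hf : f ≠ 0 := hf'.ne'
  simp only [PNat.mk_coe] at hK
  have hfin := finite_W hpE6 CoxeterMatrix.E₆.toCoxeterSystem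
  have hR := rgd (K := F) hpE6 CoxeterMatrix.E₆.toCoxeterSystem r
  have h2 := two_le hr hf
  have hs : ∀ i, Nat.card (XX chevE6 6 F (sr i)) = r ^ f := fun i => by
    rw [card_XX hpE6 F CoxeterMatrix.E₆.toCoxeterSystem (isRoot_sr _ _ i), Nat.card_eq_fintype_card, hK]
  have hG := GG_eq_top hpE6 F CoxeterMatrix.E₆.toCoxeterSystem
  have hT : Nat.gcd 3 (r ^ f - 1) * Nat.card (chevE6.diagonalSubgroup F) = (r ^ f - 1) ^ chevE6.rank := by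
    rw [← hK]
    exact Cfsg.Agent.S1035.result rfl (chevE6, Nat.gcd 3 (Fintype.card F - 1)) (by simp)
  obtain ⟨N5, e5, f5⟩ := oE6_12345 hR h2 hs
  have hJ5 : ({j | j ∈ [1, 2, 3, 4, 5]} : Set (Fin 6)) = {j | j ≠ 0} := by
    ext j
    revert j
    decide +kernel
  rw [hJ5] at e5
  set P := PJ CoxeterMatrix.E₆.toCoxeterSystem (hpE6.isCartan) (TT chevE6 F) (XX chevE6 6 F) {j | j ≠ 0} with hP
  -- the index
  have h3 : P.index * N5 * (r ^ f - 1) ^ 6 = pr (r ^ f) [2, 5, 6, 8, 9, 12] := by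
    refine index_split hpE6 F hr hf hK _ (not_dvd_of_dvd hr hf (Nat.gcd_dvd_right 3 (r ^ f - 1))) hT ⟨f * 36, ?_⟩
      (not_dvd_pr hr hf _ (by decide)) e5
    have h3 := Cfsg.Agent.S1063.result hK
    rw [pow_mul]
    simp only [pr_cons, pr_nil]
    rw [h3]
    ring
  set q := r ^ f with hq
  rw [hK] at ho h0 h
  have h4 : P.index * ((q - 1) * (q ^ 4 - 1)) = (q ^ 9 - 1) * (q ^ 12 - 1) := by
    rw [mul_assoc, f5] at h3
    simp only [pr_cons, pr_nil, pow_one, mul_one] at h3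
    have h5 : ∀ d, 0 < d → 0 < q ^ d - 1 := fun d hd => by
      have h1 : q ^ 1 ≤ q ^ d := Nat.pow_le_pow_right (by omega) hd
      rw [pow_one] at h1
      omega
    have h6 : 0 < (q ^ 2 - 1) * (q ^ 5 - 1) * (q ^ 6 - 1) * (q ^ 8 - 1) :=
      Nat.mul_pos (Nat.mul_pos (Nat.mul_pos (h5 2 two_pos) (h5 5 (by norm_num))) (h5 6 (by norm_num)))
        (h5 8 (by norm_num))
    refine Nat.eq_of_mul_eq_mul_right h6 ?_
    calc _ = P.index * ((q - 1) * ((q ^ 2 - 1) * ((q ^ 4 - 1) * ((q ^ 5 - 1) * ((q ^ 6 - 1) * (q ^ 8 - 1)))))) := by ring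
      _ = _ := by rw [h3]; ring
  obtain ⟨q₁, q₂, h5, h6, h7⟩ := orbitsE6 hR h2 hs hG rfl h4
  -- `p` does not divide the order of the parabolic subgroup
  have h8 : ¬ p ∣ Nat.card ↥P := by
    rw [e5, hpp.dvd_mul, not_or]
    have hq1 : ¬ p ∣ q - 1 := by
      have := h 1 (by simp)
      rwa [pow_one] at this
    constructor
    · intro h9
      have h10 : p ∣ pr q [1, 2, 4, 5, 6, 8] := by
        rw [← f5]
        exact Dvd.dvd.mul_right h9 _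
      simp only [pr_cons, pr_nil, mul_one, hpp.dvd_mul] at h10
      rcases h10 with h10 | h10 | h10 | h10 | h10 | h10
      · exact h 1 (by simp) h10
      · exact h 2 (by simp) h10
      · exact h 4 (by simp) h10
      · exact h 5 (by simp) h10
      · exact h 6 (by simp) h10
      · exact h 8 (by simp) h10
    · rw [card_B' hR, hpp.dvd_mul, not_or]
      constructor
      · obtain ⟨a, ha⟩ := (IsPGroup.iff_card (p := r)).1 hR.isPGroup_Upos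
        rw [ha]
        intro h9
        have h10 := (Nat.prime_dvd_prime_iff_eq hpp hr).1 (hpp.dvd_of_dvd_pow h9)
        rw [h10, hq] at h0
        exact h0 (dvd_pow_self r hf)
      · rw [Nat.card_congr (Subgroup.subgroupOfEquivOfLe (Cfsg.Agent.ChevalleyStructure.Elts.diagonal_le_group hpE6.inList F)).toEquiv]
        intro h9
        apply hq1
        refine hpp.dvd_of_dvd_pow (n := chevE6.rank) ?_
        rw [← hT]
        exact Dvd.dvd.mul_left h9 _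
  -- the numbers
  have hk1 := one_ltE6 h2
  have hlt := ltE6 h2
  obtain ⟨e1, m, s, e2, e3, e4⟩ := oddE6 ho
  exact evAt_of_rank_three P hd h8 h7 h5 h6 hk1 (hk1.trans hlt) hlt.ne e1 e2 e3 e4

end Cfsg.Agent.H978.EP
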