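import Cfsg.Agent.H35.ExcIdx

/-!
# Suborbits of a maximal parabolic subgroup of rank 3 (helper978)

* `ncard_orbit_mul` : orbits of a subgroup on the cosets of a subgroup;
* `inf_cj_eq` : `P_J ∩ ⁿP_J = P_K ∩ ⁿP_K`;
* `ncard_orbit_n` : the orbit of `n_i P_J`;
* `exists_double` : three double cosets from a table of vectors.
-/

set_option autoImplicit false
set_option linter.unusedSectionVars false

namespace Cfsg.Agent.H978.EP

open CoxeterSystem Cfsg.Agent.ChevalleyStructure.CoxeterGeom Cfsg.Agent.Tits.Roots Cfsg.Agent.Tits.Core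
  Cfsg.Agent.Tits.RootComb Cfsg.Agent.Tits.Exchange Cfsg.Agent.Nodes.Reps Cfsg.Agent.Nodes.BNOf
  Cfsg.Agent.Nodes.StabComb Cfsg.Agent.Nodes.Bruhat Cfsg.Agent.Nodes.LeviDec

section Act

variable {G : Type*} [Group G] [Finite G]

theorem mem_stab_iff (H K : Subgroup G) (g : G) (x : H) :
    x ∈ MulAction.stabilizer H ((g : G) : G ⧸ K) ↔ (x : G) ∈ cj g K := by
  rw [MulAction.mem_stabilizer_iff, mem_cj]
  show ((x : G) • ((g : G) : G ⧸ K)) = _ ↔ _
  rw [MulAction.Quotient.smul_coe, smul_eq_mul, eq_comm, QuotientGroup.eq, ← mul_assoc]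

theorem ncard_orbit_mul (H K : Subgroup G) (g : G) :
    (MulAction.orbit H ((g : G) : G ⧸ K)).ncard * Nat.card ↥(H ⊓ cj g K) = Nat.card H := by
  have h1 := (MulAction.stabilizer H ((g : G) : G ⧸ K)).index_mul_card
  rw [MulAction.index_stabilizer] at h1
  have h2 : MulAction.stabilizer H ((g : G) : G ⧸ K) = (H ⊓ cj g K).subgroupOf H := by
    ext x
    rw [mem_stab_iff, Subgroup.mem_subgroupOf, Subgroup.mem_inf]
    exact ⟨fun h => ⟨x.2, h⟩, fun h => h.2⟩
  rw [h2, Nat.card_congr (Subgroup.subgroupOfEquivOfLe (inf_le_left : H ⊓ cj g K ≤ H)).toEquiv] at h1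
  exact h1

/-- a set with a fixed point and two orbits -/
theorem ncard_third {X : Type*} [Finite X] {H : Type*} [Group H] [MulAction H X] {a b c : X}
    (ha : ∀ h : H, h • a = a) (hX : ∀ x : X, x = a ∨ x ∈ MulAction.orbit H b ∨ x ∈ MulAction.orbit H c)
    (hb : 1 < (MulAction.orbit H b).ncard) (hc : 1 + (MulAction.orbit H b).ncard < Nat.card X) :
    Nat.card X = 1 + (MulAction.orbit H b).ncard + (MulAction.orbit H c).ncard := by
  have hfix : ∀ y : X, a ∈ MulAction.orbit H y → y = a := by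
    rintro y ⟨g, hg⟩
    have : g • y = a := hg
    rw [← ha g⁻¹, ← this, inv_smul_smul]
  have h1 : a ∉ MulAction.orbit H b := by
    intro h
    rw [hfix b h] at hb
    have h2 : MulAction.orbit H a = {a} := by
      ext x
      constructor
      · rintro ⟨g, hg⟩
        exact (hg.symm.trans (ha g))
      · rintro rfl
        exact MulAction.mem_orbit_self _
    rw [h2, Set.ncard_singleton] at hb
    omega
  have h2 : ¬ c ∈ insert a (MulAction.orbit H b) := by
    intro h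
    have h3 : (Set.univ : Set X) ⊆ insert a (MulAction.orbit H b) := by
      intro x _
      rcases hX x with hx | hx | hx
      · exact Or.inl hx
      · exact Or.inr hx
      · rcases h with h | h
        · left
          obtain ⟨g, hg⟩ := hx
          have : g • c = x := hg
          rw [← this, h, ha]
        · right
          rwa [← MulAction.orbit_eq_iff.2 h]
    have h4 := Set.ncard_le_ncard h3 (Set.toFinite _)
    rw [Set.ncard_univ] at h4
    have h5 := Set.ncard_insert_le a (MulAction.orbit H b)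
    omega
  have h3 : Disjoint (insert a (MulAction.orbit H b)) (MulAction.orbit H c) := by
    rw [Set.disjoint_left]
    rintro x (rfl | hx) h4
    · exact h2 (Or.inl (hfix c h4))
    · refine h2 (Or.inr ?_)
      have h5 := MulAction.orbit_eq_iff.2 hx
      have h6 := MulAction.orbit_eq_iff.2 h4
      rw [← h5, h6]
      exact MulAction.mem_orbit_self _
  have h4 : (Set.univ : Set X) = insert a (MulAction.orbit H b) ∪ MulAction.orbit H c := by
    ext x
    constructor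
    · intro _
      rcases hX x with hx | hx | hx
      · exact Or.inl (Or.inl hx)
      · exact Or.inl (Or.inr hx)
      · exact Or.inr hx
    · exact fun _ => Set.mem_univ _
  rw [← Set.ncard_univ, h4, Set.ncard_union_eq h3 (Set.toFinite _) (Set.toFinite _),
    Set.ncard_insert_of_notMem h1 (Set.toFinite _), add_comm 1]

end Act

section Rgd

variable {I W Y : Type*} [Fintype I] [DecidableEq I] [Group W] [Group Y] {M : CoxeterMatrix I}
  {cs : CoxeterSystem M W} {A : I → I → ℤ} {h : IsCartan M A} {p : ℕ} {T : Subgroup Y} {n : I → Y}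
  {X : (I → ℤ) → Subgroup Y}

/-- `W_J ∩ s W_J s` -/
theorem mem_WJ_inf [Finite W] {r0 : I → ℤ} {J K : Set I} {i : I} (hJ : orth cs h r0 = J)
    (hD : Dom A ((3 : ℤ) • r0 + rep cs h (cs.simple i) r0))
    (hK : orth cs h ((3 : ℤ) • r0 + rep cs h (cs.simple i) r0) = K) {w : W} (hw : w ∈ WJ cs J)
    (hw' : cs.simple i * w * cs.simple i ∈ WJ cs J) : w ∈ WJ cs K := by
  rw [← hJ] at hw hw'
  have h1 := rep_of_mem_WJ_orth hw
  have h2 := rep_of_mem_WJ_orth hw'
  rw [← hK]
  refine mem_WJ_of_rep hD ?_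
  rw [map_add, map_smul, h1]
  congr 1
  rw [rep_mul_apply, rep_mul_apply] at h2
  have h3 := congrArg (rep cs h (cs.simple i)) h2
  rw [← rep_mul_apply, simple_mul_simple_self, map_one, Module.End.one_apply] at h3
  exact h3

theorem length_simple_mul_of_mem (h : IsCartan M A) [Finite W] {J : Set I} {i : I} (hi : i ∉ J) {v : W}
    (hv : v ∈ WJ cs J) : ¬ cs.length (cs.simple i * v) < cs.length v := by
  intro hlt
  have h1 : rep cs h v⁻¹ (sr i) ≤ 0 := by
    refine nonpos_of_lt cs h v⁻¹ i ?_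
    rw [← cs.length_inv v, ← cs.length_inv (cs.simple i * v), mul_inv_rev, inv_simple] at hlt
    exact hlt
  have h2 := NotJ.act (cs := cs) (h := h) (inv_mem hv) (sr_mem_NotJ hi)
  obtain ⟨-, h3, k, hk, h4⟩ := h2
  exact absurd h4 (not_lt.2 (h1 k))

variable (R : RGD cs h p T n X)

include R

theorem mem_PJ_inf [Finite W] {r0 : I → ℤ} {J K : Set I} {i : I} (hi : i ∉ J) (hJ : orth cs h r0 = J)
    (hD : Dom A ((3 : ℤ) • r0 + rep cs h (cs.simple i) r0))
    (hK : orth cs h ((3 : ℤ) • r0 + rep cs h (cs.simple i) r0) = K) {g : Y} (hg : g ∈ PJ cs h T X J)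
    (hg' : (n i)⁻¹ * g * n i ∈ PJ cs h T X J) : g ∈ PJ cs h T X K := by
  obtain ⟨w, hw, hc⟩ := (mem_PJ_iff_cell R).1 hg
  obtain ⟨v, hv, hd⟩ := (mem_PJ_iff_cell R).1 hg'
  have hn : Cell R.nsys cs h X (cs.simple i) (n i) := cell_of_rp (rp_simple cs R.nsys i)
  have hn' : Cell R.nsys cs h X (cs.simple i) (n i)⁻¹ := by
    have := hn.inv
    rwa [inv_simple] at this
  have h1 : Cell R.nsys cs h X (cs.simple i * v) (n i * ((n i)⁻¹ * g * n i)) := by
    rcases Cell.simple_mul R hn hd with h1 | h1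
    · exact h1
    · exact absurd h1.1 (length_simple_mul_of_mem h hi hv)
  have h2 : Cell R.nsys cs h X (cs.simple i * w⁻¹) ((n i)⁻¹ * g⁻¹) := by
    rcases Cell.simple_mul R hn' hc.inv with h1 | h1
    · exact h1
    · exact absurd h1.1 (length_simple_mul_of_mem h hi (inv_mem hw))
  have h3 := h2.inv
  have h4 : n i * ((n i)⁻¹ * g * n i) = ((n i)⁻¹ * g⁻¹)⁻¹ := by group
  rw [h4] at h1
  have h5 := Cell.unique R h1 h3
  refine (mem_PJ_iff_cell R).2 ⟨w, mem_WJ_inf hJ hD hK hw ?_, hc⟩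
  have h6 : v = cs.simple i * w * cs.simple i := by
    rw [mul_inv_rev, inv_inv, inv_simple] at h5
    rw [mul_assoc, ← h5, ← mul_assoc, simple_mul_simple_self, one_mul]
  rwa [← h6]

theorem PJ_mono [Finite W] {J K : Set I} (hKJ : K ⊆ J) : PJ cs h T X K ≤ PJ cs h T X J := by
  intro g hg
  obtain ⟨w, hw, hc⟩ := (mem_PJ_iff_cell R).1 hg
  exact (mem_PJ_iff_cell R).2 ⟨w, Subgroup.closure_mono (Set.image_mono hKJ) hw, hc⟩

theorem inf_cj_eq [Finite W] {r0 : I → ℤ} {J K : Set I} {i : I} (hi : i ∉ J) (hJ : orth cs h r0 = J)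
    (hD : Dom A ((3 : ℤ) • r0 + rep cs h (cs.simple i) r0))
    (hK : orth cs h ((3 : ℤ) • r0 + rep cs h (cs.simple i) r0) = K) (hKJ : K ⊆ J) :
    PJ cs h T X J ⊓ cj (n i) (PJ cs h T X J) = PJ cs h T X K ⊓ cj (n i) (PJ cs h T X K) := by
  ext g
  rw [Subgroup.mem_inf, Subgroup.mem_inf, mem_cj, mem_cj]
  constructor
  · rintro ⟨h1, h2⟩
    refine ⟨mem_PJ_inf R hi hJ hD hK h1 h2, mem_PJ_inf R hi hJ hD hK h2 ?_⟩
    have h3 : n i * n i ∈ PJ cs h T X J := B_le_PJ (RGD.T_le_B (R.sq_mem_T i))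
    have h4 : (n i)⁻¹ * ((n i)⁻¹ * g * n i) * n i = (n i * n i)⁻¹ * g * (n i * n i) := by group
    rw [h4]
    exact mul_mem (mul_mem (inv_mem h3) h1) h3
  · rintro ⟨h1, h2⟩
    exact ⟨PJ_mono R hKJ h1, PJ_mono R hKJ h2⟩

/-- the simple reflection commuting with `W_K` -/
theorem mem_insert [Finite W] {K : Set I} {i : I} (hc : ∀ j ∈ K, cs.simple i * cs.simple j = cs.simple j * cs.simple i)
    {w : W} (hw : w ∈ WJ cs (insert i K)) : w ∈ WJ cs K ∨ ∃ v ∈ WJ cs K, w = cs.simple i * v := by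
  obtain ⟨ω, hω, rfl⟩ := exists_word_of_mem_WJ cs hw
  clear hw
  induction ω with
  | nil => left; rw [wordProd_nil]; exact one_mem _
  | cons j ω ih =>
    rw [wordProd_cons]
    have h1 := ih fun k hk => hω k (List.mem_cons_of_mem _ hk)
    rcases hω j List.mem_cons_self with rfl | hj
    · rcases h1 with h1 | ⟨v, hv, e⟩
      · exact Or.inr ⟨_, h1, rfl⟩
      · left
        rw [e, ← mul_assoc, simple_mul_simple_self, one_mul]
        exact hv
    · rcases h1 with h1 | ⟨v, hv, e⟩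
      · exact Or.inl (mul_mem (simple_mem_WJ cs hj) h1)
      · right
        refine ⟨cs.simple j * v, mul_mem (simple_mem_WJ cs hj) hv, ?_⟩
        rw [e, ← mul_assoc, ← mul_assoc, hc j hj]

/-- `|P_K ∩ ⁿP_K| q = |P_K|` -/
theorem card_inf_mul [Finite W] [Finite Y] {K : Set I} {i : I} (hi : i ∉ K)
    (hc : ∀ j ∈ K, cs.simple i * cs.simple j = cs.simple j * cs.simple i) {q : ℕ}
    (hq : Nat.card ↥(PJ cs h T X (insert i K)) = (q + 1) * Nat.card ↥(PJ cs h T X K)) :
    q * Nat.card ↥(PJ cs h T X K ⊓ cj (n i) (PJ cs h T X K)) = Nat.card ↥(PJ cs h T X K) := by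
  set P := PJ cs h T X K with hP
  set Q := PJ cs h T X (insert i K) with hQ
  have hPQ : P ≤ Q := PJ_mono R (Set.subset_insert i K)
  have hnQ : n i ∈ Q := LJ_le_PJ (n_mem_LJ R (Set.mem_insert i K))
  have h1 := ncard_orbit_mul Q P 1
  rw [cj_one, inf_eq_right.2 hPQ] at h1
  have h2 := ncard_orbit_mul P P (n i)
  have hnP : n i ∉ P := by
    intro h3
    have h4 := (cell_mem_PJ_iff R (cell_of_rp (rp_simple cs R.nsys i))).1 h3
    exact length_simple_mul_of_mem h hi h4 (by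
      rw [simple_mul_simple_self, cs.length_one, cs.length_simple]; exact one_pos)
  have h3 : MulAction.orbit Q ((1 : Y) : Y ⧸ P) =
      insert ((1 : Y) : Y ⧸ P) (MulAction.orbit P ((n i : Y) : Y ⧸ P)) := by
    ext x
    constructor
    · rintro ⟨⟨g, hg⟩, rfl⟩
      have e1 : (⟨g, hg⟩ : Q) • ((1 : Y) : Y ⧸ P) = ((g : Y) : Y ⧸ P) := by
        show g • ((1 : Y) : Y ⧸ P) = _
        rw [MulAction.Quotient.smul_coe, smul_eq_mul, mul_one]
      show (⟨g, hg⟩ : Q) • ((1 : Y) : Y ⧸ P) ∈ _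
      rw [e1]
      obtain ⟨w, hw, b, hb, k, hk, b', hb', rfl⟩ := (mem_PJ_iff_cell R).1 hg
      rcases mem_insert R hc hw with hw1 | ⟨v, hv, rfl⟩
      · left
        rw [QuotientGroup.eq, mul_one]
        exact inv_mem ((mem_PJ_iff_cell R).2 ⟨w, hw1, b, hb, k, hk, b', hb', rfl⟩)
      · right
        have hk' : Rp cs R.nsys v ((n i)⁻¹ * k) := by
          have := (rp_simple cs R.nsys i).inv.mul hk
          rwa [inv_simple, ← mul_assoc, simple_mul_simple_self, one_mul] at this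
        refine ⟨⟨b, B_le_PJ hb⟩, ?_⟩
        show b • ((n i : Y) : Y ⧸ P) = _
        rw [MulAction.Quotient.smul_coe, smul_eq_mul, QuotientGroup.eq]
        have e2 : (b * n i)⁻¹ * (b * k * b') = (n i)⁻¹ * k * b' := by group
        rw [e2]
        exact mul_mem (LJ_le_PJ (rp_mem_LJ R hv hk')) (B_le_PJ hb')
    · rintro (rfl | ⟨⟨g, hg⟩, rfl⟩)
      · exact MulAction.mem_orbit_self _
      · refine ⟨⟨g * n i, mul_mem (hPQ hg) hnQ⟩, ?_⟩
        show (g * n i) • ((1 : Y) : Y ⧸ P) = g • ((n i : Y) : Y ⧸ P)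
        rw [MulAction.Quotient.smul_coe, MulAction.Quotient.smul_coe, smul_eq_mul, smul_eq_mul, mul_one]
  have h4 : ((1 : Y) : Y ⧸ P) ∉ MulAction.orbit P ((n i : Y) : Y ⧸ P) := by
    rintro ⟨⟨g, hg⟩, e⟩
    have e1 : g • ((n i : Y) : Y ⧸ P) = ((1 : Y) : Y ⧸ P) := e
    rw [MulAction.Quotient.smul_coe, smul_eq_mul, QuotientGroup.eq, mul_one] at e1
    apply hnP
    have h5 := inv_mem e1
    rw [inv_inv] at h5
    have h6 := mul_mem (inv_mem hg) h5
    rwa [inv_mul_cancel_left] at h6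
  rw [h3, Set.ncard_insert_of_notMem h4 (Set.toFinite _), hq] at h1
  have hpos : 0 < Nat.card P := Nat.card_pos
  have h5 := Nat.eq_of_mul_eq_mul_right hpos h1
  have h6 : (MulAction.orbit P ((n i : Y) : Y ⧸ P)).ncard = q := by omega
  rw [h6] at h2
  exact h2

/-- the orbit of `n_i P_J` -/
theorem ncard_orbit_n [Finite W] [Finite Y] {r0 : I → ℤ} {J K : Set I} {i : I} (hi : i ∉ J) (hJ : orth cs h r0 = J)
    (hD : Dom A ((3 : ℤ) • r0 + rep cs h (cs.simple i) r0))
    (hK : orth cs h ((3 : ℤ) • r0 + rep cs h (cs.simple i) r0) = K) (hKJ : K ⊆ J)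
    (hc : ∀ j ∈ K, cs.simple i * cs.simple j = cs.simple j * cs.simple i) {q : ℕ}
    (hq : Nat.card ↥(PJ cs h T X (insert i K)) = (q + 1) * Nat.card ↥(PJ cs h T X K)) :
    (MulAction.orbit (PJ cs h T X J) ((n i : Y) : Y ⧸ PJ cs h T X J)).ncard * Nat.card ↥(PJ cs h T X K) =
      q * Nat.card ↥(PJ cs h T X J) := by
  have h1 := ncard_orbit_mul (PJ cs h T X J) (PJ cs h T X J) (n i)
  have h2 := card_inf_mul R (fun h3 => hi (hKJ h3)) hc hq
  rw [inf_cj_eq R hi hJ hD hK hKJ] at h1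
  rw [← h1, ← h2]
  ring

end Rgd

/-! ### three double cosets -/

section Double

/-- the reflection on root vectors -/
def ract {ι : Type*} [Fintype ι] [DecidableEq ι] (A : ι → ι → ℤ) (i : ι) (x : ι → ℤ) : ι → ℤ :=
  fun k => x k - if k = i then pairing A i x else 0

/-- `L` lists an orbit: `r0`, then `a - 1` vectors in the orbit of `s_i r0` under `W_J`, then the orbit of a further vector -/
structure DTab {ι : Type*} [Fintype ι] [DecidableEq ι] (A : ι → ι → ℤ) (i : ι) (r0 : ι → ℤ) (a : ℕ)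
    (L : List (ι → ℤ)) : Prop where
  a1 : 1 < a
  al : a < L.length
  zero : L.getD 0 0 = r0
  one : L.getD 1 0 = ract A i r0
  low : ∀ t < a, 1 < t → ∃ s < t, 0 < s ∧ ∃ j, j ≠ i ∧ L.getD t 0 = ract A j (L.getD s 0)
  mid : ∃ s < a, 0 < s ∧ L.getD a 0 = ract A i (L.getD s 0)
  top : ∀ t < L.length, a < t → ∃ s < t, a ≤ s ∧ ∃ j, j ≠ i ∧ L.getD t 0 = ract A j (L.getD s 0)
  closed : ∀ t < L.length, ∀ j, ∃ s < L.length, L.getD s 0 = ract A j (L.getD t 0)

/-- the check of `DTab` -/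
def dtabOK {ι : Type*} [Fintype ι] [DecidableEq ι] (A : ι → ι → ℤ) (i : ι) (r0 : ι → ℤ) (a : ℕ)
    (L : List (ι → ℤ)) (J : List ι) : Bool :=
  decide (1 < a) && decide (a < L.length) && decide (L.getD 0 0 = r0) && decide (L.getD 1 0 = ract A i r0) &&
    ((List.range a).all fun t => t == 0 || t == 1 || (List.range t).any fun s => decide (0 < s) &&
      J.any fun j => decide (j ≠ i) && decide (L.getD t 0 = ract A j (L.getD s 0))) &&
    ((List.range a).any fun s => decide (0 < s) && decide (L.getD a 0 = ract A i (L.getD s 0))) &&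
    ((List.range L.length).all fun t => decide (t ≤ a) || (List.range t).any fun s => decide (a ≤ s) &&
      J.any fun j => decide (j ≠ i) && decide (L.getD t 0 = ract A j (L.getD s 0))) &&
    ((List.range L.length).all fun t => J.all fun j => (List.range L.length).any fun s =>
      decide (L.getD s 0 = ract A j (L.getD t 0))) && decide (∀ j, j ∈ J)

theorem DTab.of_check {ι : Type*} [Fintype ι] [DecidableEq ι] {A : ι → ι → ℤ} {i : ι} {r0 : ι → ℤ} {a : ℕ}
    {L : List (ι → ℤ)} {J : List ι} (h : dtabOK A i r0 a L J = true) : DTab A i r0 a L := by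
  unfold dtabOK at h
  simp only [Bool.and_eq_true, decide_eq_true_eq, List.all_eq_true, List.any_eq_true, List.mem_range, Bool.or_eq_true,
    beq_iff_eq] at h
  obtain ⟨⟨⟨⟨⟨⟨⟨⟨h1, h2⟩, h3⟩, h4⟩, h5⟩, h6⟩, h7⟩, h8⟩, h9⟩ := h
  refine ⟨h1, h2, h3, h4, fun t ht h0 => ?_, h6, fun t ht h0 => ?_, fun t ht j => h8 t ht j (h9 j)⟩
  · rcases h5 t ht with (h10 | h10) | ⟨s, hs, hs0, j, -, hj, e⟩
    · omega
    · omega
    · exact ⟨s, hs, hs0, j, hj, e⟩
  · rcases h7 t ht with h10 | ⟨s, hs, hs0, j, -, hj, e⟩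
    · omega
    · exact ⟨s, hs, hs0, j, hj, e⟩

variable {I W : Type*} [Fintype I] [DecidableEq I] [Group W] {M : CoxeterMatrix I}
  {cs : CoxeterSystem M W} {A : I → I → ℤ} {h : IsCartan M A}

theorem ract_eq (i : I) (x : I → ℤ) : ract A i x = rep cs h (cs.simple i) x := by
  rw [rep_simple_eq]
  funext k
  rw [Pi.sub_apply, Pi.smul_apply, smul_eq_mul]
  unfold ract
  by_cases hk : k = i
  · rw [if_pos hk, hk, sr_self, mul_one]
  · rw [if_neg hk, sr_ne hk, mul_zero]

/-- three double cosets -/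
theorem exists_double [Finite W] {r0 : I → ℤ} {i : I} (hJ : orth cs h r0 = {j | j ≠ i}) (hD : Dom A r0) {a : ℕ}
    {L : List (I → ℤ)} (hL : DTab A i r0 a L) : ∃ d : W, ∀ w : W, w ∈ WJ cs {j | j ≠ i} ∨
      (∃ u ∈ WJ cs {j | j ≠ i}, ∃ v ∈ WJ cs {j | j ≠ i}, w = u * cs.simple i * v) ∨
      ∃ u ∈ WJ cs {j | j ≠ i}, ∃ v ∈ WJ cs {j | j ≠ i}, w = u * d * v := by
  -- the lower part of the table
  have hlow : ∀ t < a, 0 < t → ∃ u ∈ WJ cs {j | j ≠ i}, L.getD t 0 = rep cs h (u * cs.simple i) r0 := by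
    intro t
    induction t using Nat.strong_induction_on with
    | _ t ih =>
      intro ht h0
      rcases Nat.lt_or_ge 1 t with h1 | h1
      · obtain ⟨s, hs, hs0, j, hj, e⟩ := hL.low t ht h1
        obtain ⟨u, hu, e'⟩ := ih s hs (by omega) hs0
        refine ⟨cs.simple j * u, mul_mem (simple_mem_WJ cs hj) hu, ?_⟩
        rw [e, e', ract_eq (cs := cs) (h := h), mul_assoc, rep_mul_apply cs h (cs.simple j)]
      · have h2 : t = 1 := by omega
        subst h2
        exact ⟨1, one_mem _, by rw [hL.one, ract_eq (cs := cs) (h := h), one_mul]⟩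
  obtain ⟨s, hs, hs0, e⟩ := hL.mid
  obtain ⟨u0, hu0, e0⟩ := hlow s hs hs0
  refine ⟨cs.simple i * (u0 * cs.simple i), fun w => ?_⟩
  set d := cs.simple i * (u0 * cs.simple i) with hd
  have ha : L.getD a 0 = rep cs h d r0 := by
    rw [e, e0, ract_eq (cs := cs) (h := h), hd, rep_mul_apply cs h (cs.simple i)]
  have htop : ∀ t < L.length, a ≤ t → ∃ u ∈ WJ cs {j | j ≠ i}, L.getD t 0 = rep cs h (u * d) r0 := by
    intro t
    induction t using Nat.strong_induction_on with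
    | _ t ih =>
      intro ht h0
      rcases Nat.lt_or_ge a t with h1 | h1
      · obtain ⟨s, hs, hs0, j, hj, e⟩ := hL.top t ht h1
        obtain ⟨u, hu, e'⟩ := ih s hs (by omega) hs0
        refine ⟨cs.simple j * u, mul_mem (simple_mem_WJ cs hj) hu, ?_⟩
        rw [e, e', ract_eq (cs := cs) (h := h), mul_assoc, rep_mul_apply cs h (cs.simple j)]
      · have h2 : t = a := by omega
        subst h2
        exact ⟨1, one_mem _, by rw [ha, one_mul]⟩
  -- the orbit
  have horb : ∃ t < L.length, L.getD t 0 = rep cs h w r0 := by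
    obtain ⟨ω, rfl⟩ := cs.wordProd_surjective w
    induction ω with
    | nil => exact ⟨0, by have := hL.al; omega, by rw [hL.zero, wordProd_nil, map_one, Module.End.one_apply]⟩
    | cons j ω ih =>
      obtain ⟨t, ht, e⟩ := ih
      obtain ⟨s, hs, e'⟩ := hL.closed t ht j
      exact ⟨s, hs, by rw [e', e, wordProd_cons, ract_eq (cs := cs) (h := h), rep_mul_apply]⟩
  have hstab : ∀ v : W, rep cs h w r0 = rep cs h v r0 → v⁻¹ * w ∈ WJ cs {j | j ≠ i} := by
    intro v hv
    rw [← hJ]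
    refine mem_WJ_of_rep hD ?_
    rw [rep_mul_apply, hv, rep_inv_apply]
  obtain ⟨t, ht, e⟩ := horb
  rcases Nat.eq_zero_or_pos t with h0 | h0
  · left
    have h1 := hstab 1 (by rw [← e, h0, hL.zero, map_one, Module.End.one_apply])
    rwa [inv_one, one_mul] at h1
  · right
    rcases Nat.lt_or_ge t a with h1 | h1
    · left
      obtain ⟨u, hu, e'⟩ := hlow t h1 h0
      exact ⟨u, hu, _, hstab _ (e.symm.trans e'), by group⟩
    · right
      obtain ⟨u, hu, e'⟩ := htop t ht h1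
      exact ⟨u, hu, _, hstab _ (e.symm.trans e'), by group⟩

end Double

section RgdThree

variable {I W Y : Type*} [Fintype I] [DecidableEq I] [Group W] [Group Y] {M : CoxeterMatrix I}
  {cs : CoxeterSystem M W} {A : I → I → ℤ} {h : IsCartan M A} {p : ℕ} {T : Subgroup Y} {n : I → Y}
  {X : (I → ℤ) → Subgroup Y} (R : RGD cs h p T n X)

include R

/-- the orbits on `Y / P_J` -/
theorem exists_orbit [Finite W] (hG : GG cs h T X = ⊤) {J : Set I} {i : I} {d : W}
    (hd : ∀ w : W, w ∈ WJ cs J ∨ (∃ u ∈ WJ cs J, ∃ v ∈ WJ cs J, w = u * cs.simple i * v) ∨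
      ∃ u ∈ WJ cs J, ∃ v ∈ WJ cs J, w = u * d * v) : ∃ k : Y, ∀ x : Y ⧸ PJ cs h T X J, x = ((1 : Y) : Y ⧸ PJ cs h T X J) ∨
      x ∈ MulAction.orbit (PJ cs h T X J) ((n i : Y) : Y ⧸ PJ cs h T X J) ∨
      x ∈ MulAction.orbit (PJ cs h T X J) ((k : Y) : Y ⧸ PJ cs h T X J) := by
  obtain ⟨k, hk⟩ := exists_rp cs R.nsys d
  refine ⟨k, fun x => ?_⟩
  obtain ⟨g, rfl⟩ := QuotientGroup.mk_surjective x
  have hgG : g ∈ GG cs h T X := by rw [hG]; trivial
  obtain ⟨w, hw⟩ := (mem_GG R).1 hgG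
  have key : ∀ (e : W) (l : Y), Rp cs R.nsys e l → (∃ u ∈ WJ cs J, ∃ v ∈ WJ cs J, w = u * e * v) →
      (QuotientGroup.mk g : Y ⧸ PJ cs h T X J) ∈ MulAction.orbit (PJ cs h T X J) ((l : Y) : Y ⧸ PJ cs h T X J) := by
    rintro e l hl ⟨u, hu, v, hv, rfl⟩
    obtain ⟨b, hb, m, hm, b', hb', rfl⟩ := hw
    obtain ⟨y, hy⟩ := exists_rp cs R.nsys u
    have h1 : Rp cs R.nsys v ((y * l)⁻¹ * m) := by
      have := (hy.mul hl).inv.mul hm
      rwa [inv_mul_cancel_left] at this
    refine ⟨⟨b * y, mul_mem (B_le_PJ hb) (LJ_le_PJ (rp_mem_LJ R hu hy))⟩, ?_⟩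
    show (b * y) • ((l : Y) : Y ⧸ PJ cs h T X J) = _
    rw [MulAction.Quotient.smul_coe, smul_eq_mul, QuotientGroup.eq]
    have e2 : (b * y * l)⁻¹ * (b * m * b') = (y * l)⁻¹ * m * b' := by group
    rw [e2]
    exact mul_mem (LJ_le_PJ (rp_mem_LJ R hv h1)) (B_le_PJ hb')
  rcases hd w with h1 | h1 | h1
  · left
    rw [QuotientGroup.eq, mul_one]
    exact inv_mem ((cell_mem_PJ_iff R hw).2 h1)
  · exact Or.inr (Or.inl (key _ _ (rp_simple cs R.nsys i) h1))
  · exact Or.inr (Or.inr (key _ _ hk h1))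

end RgdThree

end Cfsg.Agent.H978.EP
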